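import Mathlib

/-! # Stability of point configurations through monomials in determinant sections -/

set_option autoImplicit false

universe u

namespace Groth.Agent.GITLib.ConfigMonomials

/-- Farkas' lemma for finitely many generators. -/
theorem farkas {V : Type*} [AddCommGroup V] [Module ℚ V] : ∀ (n : ℕ) (v : Fin n → V) (b : V),
    (∃ c : Fin n → ℚ, (∀ i, 0 ≤ c i) ∧ b = ∑ i, c i • v i) ∨
      ∃ y : Module.Dual ℚ V, (∀ i, 0 ≤ y (v i)) ∧ y b < 0 := by
  intro n
  induction n with
  | zero =>
    intro v b
    by_cases hb : b = 0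
    · exact Or.inl ⟨fun i => i.elim0, fun i => i.elim0, by simp [hb]⟩
    · obtain ⟨y, hy⟩ := not_forall.1 fun h => hb ((Module.forall_dual_apply_eq_zero_iff ℚ b).1 h)
      rcases lt_or_gt_of_ne hy with h | h
      · exact Or.inr ⟨y, fun i => i.elim0, h⟩
      · exact Or.inr ⟨-y, fun i => i.elim0, by simpa using h⟩
  | succ n ih =>
    intro v b
    rcases ih (fun i => v i.castSucc) b with ⟨c, hc, he⟩ | ⟨y, hy, hyb⟩
    · refine Or.inl ⟨Fin.snoc c 0, fun i => ?_, ?_⟩
      · refine Fin.lastCases ?_ (fun j => ?_) i <;> simp [hc]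
      · rw [Fin.sum_univ_castSucc]
        simpa using he
    · by_cases ha : 0 ≤ y (v (Fin.last n))
      · exact Or.inr ⟨y, fun i => Fin.lastCases ha hy i, hyb⟩
      push Not at ha
      let a := v (Fin.last n)
      let π : V →ₗ[ℚ] V := LinearMap.id - ((y a)⁻¹ • y).smulRight a
      have hπ : ∀ x, π x = x - ((y a)⁻¹ * y x) • a := fun x => rfl
      rcases ih (fun i => π (v i.castSucc)) (π b) with ⟨c, hc, he⟩ | ⟨z, hz, hzb⟩
      · let t := (y a)⁻¹ * (y b - ∑ i, c i * y (v i.castSucc))
        refine Or.inl ⟨Fin.snoc c t, fun i => ?_, ?_⟩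
        · refine Fin.lastCases ?_ (fun j => ?_) i
          · rw [Fin.snoc_last]
            refine mul_nonneg_of_nonpos_of_nonpos (inv_nonpos.2 ha.le) (sub_nonpos.2 (hyb.le.trans ?_))
            exact Finset.sum_nonneg fun i _ => mul_nonneg (hc i) (hy i)
          · simp [hc]
        · rw [Fin.sum_univ_castSucc]
          simp only [Fin.snoc_castSucc, Fin.snoc_last]
          simp only [hπ, smul_sub, Finset.sum_sub_distrib, smul_smul] at he
          rw [← Finset.sum_smul, sub_eq_iff_eq_add] at he
          conv_lhs => rw [he]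
          rw [sub_add, ← sub_smul, show (t : ℚ) • v (Fin.last n) = t • a from rfl, sub_eq_add_neg, ← neg_smul]
          congr 2
          simp only [t, mul_sub, Finset.mul_sum, neg_sub, mul_left_comm ((y a)⁻¹)]
      · refine Or.inr ⟨z.comp π, fun i => Fin.lastCases ?_ hz i, hzb⟩
        show 0 ≤ z (π a)
        rw [hπ, inv_mul_cancel₀ ha.ne, one_smul, sub_self, map_zero]

/-- Abel summation: non-positive sublevel sums give a non-negative weighted sum. -/
theorem sum_mul_ge {J : Type*} [DecidableEq J] (c u : J → ℚ) : ∀ (s : Finset J) (t : ℚ),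
    (∀ j ∈ s, c j ≤ t) → (∀ r : ℚ, ∑ j ∈ s.filter (fun j => c j ≤ r), u j ≤ 0) →
    t * ∑ j ∈ s, u j ≤ ∑ j ∈ s, c j * u j := by
  intro s
  induction s using Finset.strongInduction with
  | H s ih =>
    intro t ht hu
    rcases s.eq_empty_or_nonempty with rfl | hne
    · simp
    obtain ⟨j₀, hj₀, hmax⟩ := Finset.exists_max_image s c hne
    have hs : ∑ j ∈ s, u j ≤ 0 := by
      have := hu (c j₀)
      rwa [Finset.filter_true_of_mem hmax] at this
    let s' := s.filter (fun j => c j < c j₀)
    have hlt : s' ⊂ s := Finset.filter_ssubset.2 ⟨j₀, hj₀, lt_irrefl _⟩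
    have h1 : c j₀ * ∑ j ∈ s', u j ≤ ∑ j ∈ s', c j * u j := by
      refine ih s' hlt (c j₀) (fun j hj => (Finset.mem_filter.1 hj).2.le) fun r => ?_
      by_cases hr : c j₀ ≤ r
      · rw [Finset.filter_true_of_mem fun j hj => ((Finset.mem_filter.1 hj).2.le.trans hr)]
        rcases s'.eq_empty_or_nonempty with h | h
        · simp [h]
        · obtain ⟨j₁, hj₁, hm⟩ := Finset.exists_max_image s' c h
          have := hu (c j₁)
          rwa [show s.filter (fun j => c j ≤ c j₁) = s' from ?_] at this
          ext j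
          simp only [Finset.mem_filter, s'] at hj₁ ⊢
          refine ⟨fun hj => ⟨hj.1, hj.2.trans_lt hj₁.2⟩, fun hj => ⟨hj.1, hm j ?_⟩⟩
          simpa [s'] using hj
      · have := hu r
        rwa [show s'.filter (fun j => c j ≤ r) = s.filter (fun j => c j ≤ r) from ?_]
        ext j
        simp only [s', Finset.mem_filter]
        exact ⟨fun h => ⟨h.1.1, h.2⟩, fun h => ⟨⟨h.1, h.2.trans_lt (not_le.1 hr)⟩, h.2⟩⟩
    have h2 : ∑ j ∈ s \ s', c j * u j = c j₀ * ∑ j ∈ s \ s', u j := by
      rw [Finset.mul_sum]
      refine Finset.sum_congr rfl fun j hj => ?_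
      simp only [s', Finset.mem_sdiff, Finset.mem_filter, not_and, not_lt] at hj
      rw [le_antisymm (hmax j hj.1) (hj.2 hj.1)]
    calc t * ∑ j ∈ s, u j ≤ c j₀ * ∑ j ∈ s, u j := mul_le_mul_of_nonpos_right (ht j₀ hj₀) hs
      _ = c j₀ * ∑ j ∈ s \ s', u j + c j₀ * ∑ j ∈ s', u j := by
        rw [← mul_add, Finset.sum_sdiff hlt.subset]
      _ ≤ ∑ j ∈ s \ s', c j * u j + ∑ j ∈ s', c j * u j := by rw [h2]; exact add_le_add_right h1 _
      _ = _ := Finset.sum_sdiff hlt.subset

variable {K V : Type u} [Field K] [AddCommGroup V] [Module K V] [FiniteDimensional K V] {J : Type*} [Fintype J]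

/-- Greedy: an independent family computing the rank of every sublevel set. -/
theorem exists_greedy [DecidableEq J] (x : J → V) (c : J → ℚ) : ∀ s : Finset J,
    ∃ b : Finset J, b ⊆ s ∧ LinearIndepOn K x (b : Set J) ∧
      ∀ r : ℚ, x '' ↑(s.filter (fun j => c j ≤ r)) ⊆ Submodule.span K (x '' ↑(b.filter (fun j => c j ≤ r))) := by
  intro s
  induction s using Finset.strongInduction with
  | H s ih =>
    rcases s.eq_empty_or_nonempty with rfl | hne
    · exact ⟨∅, subset_rfl, by simp, by simp⟩
    obtain ⟨j₀, hj₀, hmax⟩ := Finset.exists_max_image s c hne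
    let s' := s.filter (fun j => c j < c j₀)
    obtain ⟨b', hb's, hb'i, hb'⟩ := ih s' (Finset.filter_ssubset.2 ⟨j₀, hj₀, lt_irrefl _⟩)
    obtain ⟨B, hBs, hb'B, hspan, hBi⟩ := exists_linearIndepOn_extension hb'i
      (Finset.coe_subset.2 (hb's.trans (Finset.filter_subset _ _)))
    obtain ⟨b, rfl⟩ := ((s : Finset J).finite_toSet.subset hBs).exists_finset_coe
    rw [Finset.coe_subset] at hBs hb'B
    refine ⟨b, hBs, hBi, fun r => ?_⟩
    by_cases hr : c j₀ ≤ r
    · rw [Finset.filter_true_of_mem fun j hj => (hmax j hj).trans hr,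
        Finset.filter_true_of_mem fun j hj => (hmax j (hBs hj)).trans hr]
      exact hspan
    · refine subset_trans ?_ ((hb' r).trans (SetLike.coe_subset_coe.2 (Submodule.span_mono (Set.image_mono ?_))))
      · refine Set.image_mono ?_
        intro j hj
        simp only [Finset.coe_filter, Set.mem_setOf_eq, s', Finset.mem_filter] at hj ⊢
        exact ⟨⟨hj.1, hj.2.trans_lt (not_le.1 hr)⟩, hj.2⟩
      · exact Finset.coe_subset.2 (Finset.filter_subset_filter _ hb'B)

/-- A weight vector satisfying the rank inequalities is a non-negative combination of bases. -/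
theorem mem_cone [DecidableEq J] (x : J → V) (hspan : Submodule.span K (Set.range x) = ⊤) (w : J → ℚ) (M : ℚ)
    (hM : 0 ≤ M) (htot : ∑ j, w j = M * Module.finrank K V)
    (hA : ∀ A : Finset J, ∑ j ∈ A, w j ≤ M * Module.finrank K (Submodule.span K (x '' (A : Set J)))) :
    ∃ cf : Finset J → ℚ, (∀ B, 0 ≤ cf B) ∧
      (∀ B, cf B ≠ 0 → B.card = Module.finrank K V ∧ LinearIndepOn K x (B : Set J)) ∧
      ∀ j, w j = ∑ B, cf B * (if j ∈ B then 1 else 0) := by
  classical
  let S := Finset.univ.filter fun B : Finset J => B.card = Module.finrank K V ∧ LinearIndepOn K x (B : Set J)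
  let e := S.equivFin.symm
  let v : Fin S.card → (J → ℚ) := fun i j => if j ∈ (e i).1 then 1 else 0
  rcases farkas S.card v w with ⟨cc, hcc, he⟩ | ⟨y, hy, hyw⟩
  · refine ⟨fun B => if h : B ∈ S then cc (e.symm ⟨B, h⟩) else 0, fun B => ?_, fun B hB => ?_, fun j => ?_⟩
    · dsimp only
      split
      · exact hcc _
      · exact le_rfl
    · by_contra hn
      exact hB (dif_neg (fun (h : B ∈ S) => hn (Finset.mem_filter.1 h).2))
    · rw [congrFun he j, Finset.sum_apply]
      rw [← Finset.sum_subset (Finset.subset_univ S) fun B _ hB => by simp [hB], ← Finset.sum_attach S]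
      refine Fintype.sum_equiv e _ _ fun i => ?_
      simp [v, Subtype.coe_eta]
  · exfalso
    let c : J → ℚ := fun j => y (Pi.single j 1)
    have hval : ∀ z : J → ℚ, y z = ∑ j, c j * z j := fun z => by
      conv_lhs => rw [pi_eq_sum_univ z]
      rw [map_sum]
      refine Finset.sum_congr rfl fun j _ => ?_
      rw [map_smul, smul_eq_mul, mul_comm]
      congr 2
      ext i
      simp [Pi.single_apply, eq_comm]
    obtain ⟨b, -, hbi, hb⟩ := exists_greedy (K := K) x c Finset.univ
    have hcard : ∀ r : ℚ, Module.finrank K (Submodule.span K (x '' ↑(Finset.univ.filter (fun j => c j ≤ r)))) =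
        (b.filter (fun j => c j ≤ r)).card := by
      intro r
      rw [show Submodule.span K (x '' ↑(Finset.univ.filter (fun j => c j ≤ r))) =
          Submodule.span K (x '' ↑(b.filter (fun j => c j ≤ r))) from le_antisymm (Submodule.span_le.2 (hb r))
            (Submodule.span_mono (Set.image_mono (Finset.coe_subset.2
              (Finset.filter_subset_filter _ (Finset.subset_univ _)))))]
      have hi : LinearIndepOn K x ↑(b.filter (fun j => c j ≤ r)) :=
        hbi.mono (Finset.coe_subset.2 (Finset.filter_subset _ _))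
      rw [Set.image_eq_range, finrank_span_eq_card hi]
      simp
    obtain ⟨R, hR⟩ : ∃ R : ℚ, ∀ j, c j ≤ R := ⟨∑ j, |c j|,
      fun j => (le_abs_self _).trans (Finset.single_le_sum (fun i _ => abs_nonneg (c i)) (Finset.mem_univ j))⟩
    have hbd : b.card = Module.finrank K V := by
      have h := hcard R
      rw [Finset.filter_true_of_mem fun j _ => hR j, Finset.filter_true_of_mem fun j _ => hR j, Finset.coe_univ,
        Set.image_univ, hspan, finrank_top] at h
      exact h.symm
    have hbS : b ∈ S := Finset.mem_filter.2 ⟨Finset.mem_univ _, hbd, hbi⟩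
    have h0 := hy (e.symm ⟨b, hbS⟩)
    let u : J → ℚ := fun j => w j - M * (if j ∈ b then 1 else 0)
    have hu : ∀ s : Finset J, ∑ j ∈ s, u j = ∑ j ∈ s, w j - M * ((s.filter (· ∈ b)).card : ℚ) := fun s => by
      simp [u, Finset.sum_sub_distrib, ← Finset.mul_sum, Finset.sum_boole, Finset.filter_mem_eq_inter, mul_comm]
    have key := sum_mul_ge c u Finset.univ R (fun j _ => hR j) fun r => by
      rw [hu, sub_nonpos]
      refine (hA _).trans (le_of_eq ?_)
      rw [hcard, Finset.filter_filter]
      congr 3
      ext j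
      simp [and_comm]
    have htot' : ∑ j, u j = 0 := by
      rw [hu, htot, ← hbd]
      simp
    rw [htot', mul_zero] at key
    have hexp : ∑ j, c j * u j = y w - M * y (v (e.symm ⟨b, hbS⟩)) := by
      rw [hval, hval, Finset.mul_sum, ← Finset.sum_sub_distrib]
      refine Finset.sum_congr rfl fun j _ => ?_
      by_cases hj : j ∈ b <;> simp [u, v, hj] <;> ring
    nlinarith [hexp, key, h0, hM, hyw]

/-- Double counting of memberships. -/
theorem sum_card_filter [DecidableEq J] (P : Multiset (Finset J)) (I : Finset J) :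
    ∑ j ∈ I, Multiset.card (P.filter (fun S => j ∈ S)) = (P.map fun S => (S ∩ I).card).sum := by
  induction P using Multiset.induction_on with
  | empty => simp
  | cons S P ih =>
    rw [Multiset.map_cons, Multiset.sum_cons, ← ih, Finset.inter_comm, ← Finset.filter_mem_eq_inter,
      Finset.card_filter, ← Finset.sum_add_distrib]
    refine Finset.sum_congr rfl fun j _ => ?_
    by_cases h : j ∈ S <;> simp [Multiset.filter_cons, h, add_comm]

theorem config_iff (m : ℕ) (x : Fin (m + 1) → V) (hx : ∀ i, x i ≠ 0) :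
    (∀ L : Submodule K V, L ≠ ⊥ → L ≠ ⊤ →
        Set.ncard {i : Fin (m + 1) | x i ∈ L} * Module.finrank K V < Module.finrank K L * (m + 1)) ↔
      ∃ N N₀ : ℕ, 0 < N₀ ∧ N₀ ≤ N ∧
        ∀ i : Fin (m + 1), ∃ P : Multiset (Finset (Fin (m + 1))), P ≠ 0 ∧
          (∀ S ∈ P, S.card = Module.finrank K V ∧ LinearIndependent K (fun j : S => x j)) ∧
          ∀ j : Fin (m + 1),
            Multiset.card (P.filter (fun S => j ∈ S)) = if j = i then N - N₀ else N := by
  classical
  set d := Module.finrank K V with hd
  constructor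
  · intro h
    have hd0 : 0 < d := by
      haveI : Nontrivial V := ⟨x 0, 0, hx 0⟩
      exact Module.finrank_pos
    have hspan : Submodule.span K (Set.range x) = ⊤ := by
      by_contra hne
      have hb : Submodule.span K (Set.range x) ≠ ⊥ := fun e => hx 0 ((Submodule.mem_bot K).1 (e ▸ Submodule.subset_span ⟨0, rfl⟩))
      have h1 := h _ hb hne
      rw [show {i : Fin (m + 1) | x i ∈ Submodule.span K (Set.range x)} = Set.univ from
        Set.eq_univ_of_forall fun i => Submodule.subset_span ⟨i, rfl⟩, Set.ncard_univ, Nat.card_fin, mul_comm] at h1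
      exact absurd h1 (not_lt.2 (Nat.mul_le_mul_right _ (Submodule.finrank_le _)))
    have hw : ∀ i : Fin (m + 1), ∃ cf : Finset (Fin (m + 1)) → ℚ, (∀ B, 0 ≤ cf B) ∧
        (∀ B, cf B ≠ 0 → B.card = d ∧ LinearIndepOn K x (B : Set (Fin (m + 1)))) ∧
        ∀ j, (if j = i then (d : ℚ) else d + 1) = ∑ B, cf B * (if j ∈ B then 1 else 0) := by
      intro i
      have htot : ∑ j, (if j = i then (d : ℚ) else d + 1) = ((d : ℚ) + 1) * (m + 1) - 1 := by
        rw [← Finset.add_sum_erase _ _ (Finset.mem_univ i), if_pos rfl,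
          Finset.sum_congr rfl (fun j hj => if_neg (Finset.mem_erase.1 hj).1), Finset.sum_const,
          Finset.card_erase_of_mem (Finset.mem_univ i)]
        simp
        ring
      have hM : 0 ≤ ((d + 1 : ℚ) * (m + 1) - 1) / d := by
        refine div_nonneg ?_ (Nat.cast_nonneg _)
        have h1 : (0 : ℚ) ≤ d := Nat.cast_nonneg _
        have h2 : (0 : ℚ) ≤ m := Nat.cast_nonneg _
        nlinarith
      refine mem_cone x hspan _ (((d + 1 : ℚ) * (m + 1) - 1) / d) hM ?_ fun A => ?_
      · rw [htot, div_mul_cancel₀]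
        exact_mod_cast hd0.ne'
      · set L := Submodule.span K (x '' (A : Set (Fin (m + 1)))) with hL
        by_cases hb : L = ⊥
        · have hA : A = ∅ := Finset.eq_empty_of_forall_notMem fun j hj =>
            hx j ((Submodule.mem_bot K).1 (hb ▸ Submodule.subset_span ⟨j, hj, rfl⟩))
          rw [hA, Finset.sum_empty]
          exact mul_nonneg hM (Nat.cast_nonneg _)
        by_cases ht : L = ⊤
        · rw [ht, finrank_top, div_mul_cancel₀ _ (by exact_mod_cast hd0.ne'), ← htot]
          refine Finset.sum_le_sum_of_subset_of_nonneg (Finset.subset_univ A) fun j _ _ => ?_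
          split <;> positivity
        have h1 := h L hb ht
        have hAc : A.card ≤ Set.ncard {j : Fin (m + 1) | x j ∈ L} := by
          rw [← Set.ncard_coe_finset A]
          exact Set.ncard_le_ncard (fun j hj => Submodule.subset_span ⟨j, hj, rfl⟩) (Set.toFinite _)
        have h2 : (A.card * d + 1 : ℚ) ≤ Module.finrank K L * (m + 1) := by
          exact_mod_cast Nat.succ_le_of_lt (lt_of_le_of_lt (Nat.mul_le_mul_right d hAc) h1)
        have h3 : ∑ j ∈ A, (if j = i then (d : ℚ) else d + 1) ≤ A.card * (d + 1 : ℚ) := by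
          refine (Finset.sum_le_card_nsmul A _ (d + 1 : ℚ) fun j _ => ?_).trans (le_of_eq (by simp only [nsmul_eq_mul]))
          split <;> linarith
        have h4 : (Module.finrank K L : ℚ) ≤ d := by exact_mod_cast Submodule.finrank_le L
        refine h3.trans ?_
        rw [div_mul_eq_mul_div, le_div_iff₀ (by exact_mod_cast hd0)]
        nlinarith
    choose cf hcf0 hcfB hcf using hw
    let D := ∏ p : Fin (m + 1) × Finset (Fin (m + 1)), (cf p.1 p.2).den
    have hD : 0 < D := Finset.prod_pos fun p _ => (cf p.1 p.2).den_pos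
    have hint : ∀ i B, ∃ n : ℕ, (n : ℚ) = (D : ℚ) * cf i B := by
      intro i B
      obtain ⟨t, ht⟩ : (cf i B).den ∣ D :=
        Finset.dvd_prod_of_mem (fun p : Fin (m + 1) × Finset (Fin (m + 1)) => (cf p.1 p.2).den) (Finset.mem_univ (i, B))
      refine ⟨t * (cf i B).num.toNat, ?_⟩
      have hn : (((cf i B).num.toNat : ℕ) : ℚ) = ((cf i B).num : ℚ) := by
        exact_mod_cast Int.toNat_of_nonneg (Rat.num_nonneg.2 (hcf0 i B))
      rw [ht, Nat.cast_mul, Nat.cast_mul, hn, mul_comm ((cf i B).den : ℚ), mul_assoc, mul_comm ((cf i B).den : ℚ),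
        Rat.mul_den_eq_num]
    choose n hn using hint
    refine ⟨D * (d + 1), D, hD, Nat.le_mul_of_pos_right _ (Nat.succ_pos _), fun i => ?_⟩
    refine ⟨∑ B, Multiset.replicate (n i B) B, ?_, fun S hS => ?_, fun j => ?_⟩
    · intro h0
      obtain ⟨B, hB⟩ : ∃ B, cf i B ≠ 0 := by
        by_contra hne
        push Not at hne
        have := hcf i i
        simp only [hne, zero_mul, Finset.sum_const_zero, if_true] at this
        exact hd0.ne' (by exact_mod_cast this)
      have hpos : n i B ≠ 0 := by
        intro h1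
        have := hn i B
        rw [h1, Nat.cast_zero] at this
        exact hB ((mul_eq_zero.1 this.symm).resolve_left (by exact_mod_cast hD.ne'))
      have : B ∈ (0 : Multiset (Finset (Fin (m + 1)))) := h0 ▸ Multiset.mem_sum.2 ⟨B, Finset.mem_univ _,
        Multiset.mem_replicate.2 ⟨hpos, rfl⟩⟩
      simp at this
    · obtain ⟨B, -, hB⟩ := Multiset.mem_sum.1 hS
      obtain ⟨hnB, rfl⟩ := Multiset.mem_replicate.1 hB
      have : cf i S ≠ 0 := fun h1 => hnB (by
        have := hn i S
        rw [h1, mul_zero] at this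
        exact_mod_cast this)
      obtain ⟨h1, h2⟩ := hcfB i S this
      exact ⟨h1, h2⟩
    · have hcount : (Multiset.card ((∑ B, Multiset.replicate (n i B) B).filter (fun S => j ∈ S)) : ℚ) =
          ∑ B, (n i B : ℚ) * (if j ∈ B then 1 else 0) := by
        induction (Finset.univ : Finset (Finset (Fin (m + 1)))) using Finset.induction_on with
        | empty => simp
        | insert B s hBs ih =>
          rw [Finset.sum_insert hBs, Finset.sum_insert hBs, Multiset.filter_add, Multiset.card_add, Nat.cast_add, ih]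
          congr 1
          by_cases hj : j ∈ B
          · rw [Multiset.filter_eq_self.2 (fun S hS => (Multiset.eq_of_mem_replicate hS).symm ▸ hj)]
            simp [hj]
          · rw [Multiset.filter_eq_nil.2 (fun S hS => (Multiset.eq_of_mem_replicate hS).symm ▸ hj)]
            simp [hj]
      have : (Multiset.card ((∑ B, Multiset.replicate (n i B) B).filter (fun S => j ∈ S)) : ℚ) =
          (D : ℚ) * (if j = i then (d : ℚ) else d + 1) := by
        rw [hcount, hcf i j, Finset.mul_sum]
        exact Finset.sum_congr rfl fun B _ => by rw [hn, mul_assoc]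
      split_ifs with hji
      · rw [if_pos hji] at this
        have h1 : Multiset.card ((∑ B, Multiset.replicate (n i B) B).filter (fun S => j ∈ S)) = D * d := by
          exact_mod_cast this
        rw [h1, Nat.mul_succ, Nat.add_sub_cancel]
      · rw [if_neg hji] at this
        exact_mod_cast this
  · rintro ⟨N, N₀, hN₀, hNN, hP⟩ L hb ht
    have hl : Module.finrank K L < d := Submodule.finrank_lt ht
    let I := Finset.univ.filter fun j => x j ∈ L
    have hI : Set.ncard {j : Fin (m + 1) | x j ∈ L} = I.card := by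
      rw [← Set.ncard_coe_finset]
      simp [I]
    have hS : ∀ S : Finset (Fin (m + 1)), LinearIndependent K (fun j : S => x j) →
        (S ∩ I).card ≤ Module.finrank K L := by
      intro S hS
      let f : ↥(S ∩ I) → L := fun j => ⟨x j, (Finset.mem_filter.1 (Finset.mem_inter.1 j.2).2).2⟩
      have hf : LinearIndependent K f := by
        refine LinearIndependent.of_comp L.subtype ?_
        exact hS.comp (fun j : ↥(S ∩ I) => (⟨j, (Finset.mem_inter.1 j.2).1⟩ : S))
          (fun a b e => Subtype.ext (congrArg Subtype.val e :))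
      simpa only [Fintype.card_coe] using hf.fintype_card_le_finrank
    obtain ⟨i, hi⟩ : ∃ i, x i ∉ L := by
      by_contra hall
      push Not at hall
      obtain ⟨P, hP0, hPS, -⟩ := hP 0
      obtain ⟨S, hSP⟩ := Multiset.exists_mem_of_ne_zero hP0
      have h1 := hS S (hPS S hSP).2
      rw [Finset.inter_eq_left.2 (fun j _ => Finset.mem_filter.2 ⟨Finset.mem_univ _, hall j⟩), (hPS S hSP).1] at h1
      omega
    obtain ⟨P, hP0, hPS, hPc⟩ := hP i
    have htot := sum_card_filter P Finset.univ
    simp only [Finset.inter_univ] at htot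
    rw [Multiset.map_congr rfl (fun S hS => (hPS S hS).1), Multiset.map_const', Multiset.sum_replicate, smul_eq_mul,
      Finset.sum_congr rfl (fun j _ => hPc j)] at htot
    have hpart := sum_card_filter P I
    rw [Finset.sum_congr rfl (fun j (hj : j ∈ I) => (hPc j).trans (if_neg fun e => hi (by subst e; exact (Finset.mem_filter.1 hj).2))),
      Finset.sum_const, smul_eq_mul] at hpart
    have hle : I.card * N ≤ Multiset.card P * Module.finrank K L := by
      rw [hpart, ← smul_eq_mul, ← Multiset.card_map (fun S => (S ∩ I).card) P]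
      exact Multiset.sum_le_card_nsmul _ _ fun a ha => by
        obtain ⟨S, hSP, rfl⟩ := Multiset.mem_map.1 ha
        exact hS S (hPS S hSP).2
    have hlt : Multiset.card P * d < N * (m + 1) := by
      rw [← htot]
      calc _ < ∑ _j : Fin (m + 1), N := Finset.sum_lt_sum (fun j _ => by split <;> omega)
            ⟨i, Finset.mem_univ _, by rw [if_pos rfl]; omega⟩
        _ = _ := by simp [mul_comm]
    have hl0 : 0 < Module.finrank K L := Nat.pos_of_ne_zero fun e => hb (Submodule.finrank_eq_zero.1 e)
    rw [hI]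
    refine Nat.lt_of_mul_lt_mul_right (a := N) ?_
    calc I.card * d * N = I.card * N * d := mul_right_comm _ _ _
      _ ≤ Multiset.card P * Module.finrank K L * d := Nat.mul_le_mul_right _ hle
      _ = Module.finrank K L * (Multiset.card P * d) := by ring
      _ < Module.finrank K L * (N * (m + 1)) := Nat.mul_lt_mul_of_pos_left hlt hl0
      _ = _ := by ring

end Groth.Agent.GITLib.ConfigMonomials
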