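import Groth.Agent.FlatCx12.AmpStalks
import Groth.Agent.FlatCx12.TorDimBCScheme
import Groth.Agent.FlatCx12.TorAmpComp

/-!
# Tor dimension of a morphism to a scheme smooth over a base, the source being flat over the base
-/

set_option autoImplicit false
set_option backward.isDefEq.respectTransparency false
set_option backward.defeqAttrib.useBackward true

universe u

open CategoryTheory CategoryTheory.Limits AlgebraicGeometry HomologicalComplex
open Groth.Agent.DCat Groth.Agent.ModStalk Groth.Agent.FlatCx12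

attribute [local instance] HasDerivedCategory.standard

namespace Groth.Agent.GITLib.TorDimSmooth

variable {X Y S : Scheme.{u}}

/-- Over a scheme smooth of relative dimension `n`, tor amplitude over the base loses at most `n`. -/
theorem amp_of_smooth_stalk (q : Y ⟶ S) (n : ℕ) [SmoothOfRelativeDimension n q] (y : Y)
    (K : DRing.Cx (Y.presheaf.stalk y)) {a b : ℤ}
    (h : DRing.HasTorAmplitudeIn (S.presheaf.stalk (q y)) a b
      (DRing.toD ((DRing.restrictCx (q.stalkMap y).hom).obj K))) :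
    DRing.HasTorAmplitudeIn (Y.presheaf.stalk y) (a - n) b (DRing.toD K) := by
  obtain ⟨U, hU, W, hW, hxW, e, hsm⟩ := ‹SmoothOfRelativeDimension n q›.exists_isStandardSmoothOfRelativeDimension y
  have hy : q y ∈ U := e hxW
  obtain ⟨g, hg, hge⟩ := hsm.exists_etale_mvPolynomial
  let R := Γ(S, U)
  let T := Γ(Y, W)
  let B := Y.presheaf.stalk y
  let ρ : R →+* S.presheaf.stalk (q y) := (S.presheaf.germ U (q y) hy).hom
  let σ : T →+* B := (Y.presheaf.germ W y hxW).hom
  have hρ : ρ.Flat := by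
    letI := ρ.toAlgebra
    haveI := hU.isLocalization_stalk ⟨q y, hy⟩
    exact IsLocalization.flat (S.presheaf.stalk (q y)) (hU.primeIdealOf ⟨q y, hy⟩).asIdeal.primeCompl
  let χ : R →+* B := (q.stalkMap y).hom.comp ρ
  have hc : χ = (σ.comp g).comp MvPolynomial.C := by
    rw [RingHom.comp_assoc, hg]
    show ((S.presheaf.germ U (q y) hy) ≫ q.stalkMap y).hom = _
    rw [Scheme.Hom.germ_stalkMap, Scheme.Hom.appLE, ← CommRingCat.hom_comp, Category.assoc,
      Y.presheaf.germ_res]
  obtain ⟨r⟩ := DiagDim.nonempty_restrict_comp ρ (q.stalkMap y).hom χ rfl K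
  have h1 : DRing.HasTorAmplitudeIn R a b (DRing.toD ((DRing.restrictCx χ).obj K)) :=
    TorAmpComp.amp_iso (DerivedCategory.Q.mapIso r) (DiagDim.amp_restrict_of_flat ρ hρ _ h)
  letI := g.toAlgebra
  letI := σ.toAlgebra
  letI := (σ.comp g).toAlgebra
  haveI : IsScalarTower (MvPolynomial (Fin n) R) T B := .of_algebraMap_eq fun _ => rfl
  haveI : Algebra.Etale (MvPolynomial (Fin n) R) T := hge
  haveI : IsLocalization.AtPrime B (hW.primeIdealOf ⟨y, hxW⟩).asIdeal := hW.isLocalization_stalk ⟨y, hxW⟩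
  haveI : Module.Flat T B := IsLocalization.flat B (hW.primeIdealOf ⟨y, hxW⟩).asIdeal.primeCompl
  haveI : Algebra.FormallyUnramified T B :=
    Algebra.FormallyUnramified.of_isLocalization (hW.primeIdealOf ⟨y, hxW⟩).asIdeal.primeCompl
  haveI : Algebra.EssFiniteType T B :=
    Algebra.EssFiniteType.of_isLocalization B (hW.primeIdealOf ⟨y, hxW⟩).asIdeal.primeCompl
  exact DiagDim.amp_of_unramified_polynomial (σ.comp g) (Module.Flat.trans (MvPolynomial (Fin n) R) T B)
    (Algebra.FormallyUnramified.comp (MvPolynomial (Fin n) R) T B)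
    (Algebra.EssFiniteType.comp (MvPolynomial (Fin n) R) T B) χ hc K h1

/-- A morphism to a smooth `S`-scheme of relative dimension `n` from a flat one has tor dimension at most `n`. -/
theorem hasTorDimLE (q : Y ⟶ S) (n : ℕ) [SmoothOfRelativeDimension n q] (f : X ⟶ Y) [Flat (f ≫ q)] :
    DerSch.HasTorDimLE f n := by
  intro x
  show DRing.HasTorAmplitudeIn _ _ _ _
  have hflat : DerSch.HasTorAmplitudeAt (f ≫ q) (-((0 : ℕ) : ℤ)) 0 (DerSch.unitCx X) x := by
    refine (TorDimBCScheme.amp_unit_iff (f ≫ q) x _ _).2 (TorAmpComp.amp_of_D 0 _ ?_)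
    intro N _ _
    haveI : Module.Flat (S.presheaf.stalk ((f ≫ q) x))
        ((ModuleCat.restrictScalars.{u} ((f ≫ q).stalkMap x).hom).obj
          (ModuleCat.of (X.presheaf.stalk x) (X.presheaf.stalk x))) :=
      letI := ((f ≫ q).stalkMap x).hom.toAlgebra
      (Flat.stalkMap (f ≫ q) x : Module.Flat (S.presheaf.stalk ((f ≫ q) x)) (X.presheaf.stalk x))
    exact Tor15.torVanish_of_flat
  let K := (DerSch.stalkCxOver f x).obj (DerSch.unitCx X)
  let c₀ : ∀ {Z : Scheme.{u}} (φ : X ⟶ Z), (DerSch.stalkCxOver φ x).obj (DerSch.unitCx X) ≅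
      (DRing.restrictCx (φ.stalkMap x).hom).obj ((stalkK x).obj (DerSch.unitCx X)) := fun φ =>
    Hom.isoOfComponents (fun _ => Iso.refl _) (fun _ _ _ => (Category.id_comp _).trans (Category.comp_id _).symm)
  have hc : ((f ≫ q).stalkMap x).hom = (f.stalkMap x).hom.comp (q.stalkMap (f x)).hom := by
    rw [Scheme.Hom.stalkMap_comp]
    rfl
  obtain ⟨r⟩ := DiagDim.nonempty_restrict_comp (q.stalkMap (f x)).hom (f.stalkMap x).hom _ hc
    ((stalkK x).obj (DerSch.unitCx X))
  have h2 : DRing.HasTorAmplitudeIn (S.presheaf.stalk (q (f x))) (-((0 : ℕ) : ℤ)) 0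
      (DRing.toD ((DRing.restrictCx (q.stalkMap (f x)).hom).obj K)) :=
    TorAmpComp.amp_iso
      (DerivedCategory.Q.mapIso (c₀ (f ≫ q) ≪≫ r.symm ≪≫
        (DRing.restrictCx (q.stalkMap (f x)).hom).mapIso (c₀ f).symm)) hflat
  obtain ⟨E, hE, hEf, he⟩ := amp_of_smooth_stalk q n (f x) K h2
  exact ⟨E, fun i hi => hE i (by omega), hEf, he⟩

end Groth.Agent.GITLib.TorDimSmooth
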